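import Cfsg.Agent.Lib.S3E.Cls

/-!
# The split extension of the module by the group
-/

set_option autoImplicit false

namespace Cfsg.Lib.S3E

open Subgroup QuadraticMap Cfsg.Lib.Orth Cfsg.Lib.U6 Cfsg.Lib.Calc Cfsg.Lib.F2 MulAction Function Cfsg.Lib.ET Cfsg.Lib.ET.M

/-- The affine group. -/
@[ext] structure Af where
  /-- translation part -/
  v : V0
  /-- linear part -/
  l : L0

noncomputable instance s3eAff1 : Mul Af := ⟨fun x y => ⟨x.v + x.l.1.1 y.v, x.l * y.l⟩⟩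
noncomputable instance s3eAff2 : One Af := ⟨⟨0, 1⟩⟩
noncomputable instance s3eAff3 : Inv Af := ⟨fun x => ⟨x.l.1⁻¹.1 x.v, x.l⁻¹⟩⟩
@[simp] theorem mul_v (x y : Af) : (x * y).v = x.v + x.l.1.1 y.v := rfl
@[simp] theorem mul_l (x y : Af) : (x * y).l = x.l * y.l := rfl
@[simp] theorem one_v : (1 : Af).v = 0 := rfl
@[simp] theorem one_l : (1 : Af).l = 1 := rfl
@[simp] theorem inv_v (x : Af) : x⁻¹.v = x.l.1⁻¹.1 x.v := rfl
@[simp] theorem inv_l (x : Af) : x⁻¹.l = x.l⁻¹ := rfl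

noncomputable instance s3eAff4 : Group Af := Group.ofLeftAxioms (fun x y z => Af.ext (by simp [add_assoc]) (mul_assoc _ _ _))
  (fun x => Af.ext (by simp) (one_mul _)) fun x => Af.ext (vadd_self _) (inv_mul_cancel _)

instance s3eAff5 : Finite Af := Finite.of_injective (fun x : Af => (x.v, x.l)) fun _ _ e => Af.ext (congrArg Prod.fst e) (congrArg Prod.snd e)

/-- The linear part. -/
noncomputable def ρ : Af →* O q0 := MonoidHom.mk' (fun x => x.l.1) fun _ _ => rfl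

theorem mem_A {x : Af} : x ∈ ρ.ker ↔ x.l = 1 := OneMemClass.coe_eq_one

/-- The exceptional involution. -/
noncomputable def t0 : Af := ⟨a0, el kM, kG.1⟩

variable {G : Type*} [Group G]

theorem Go.conj {H : Subgroup G} {t g : G} (a : Go H t) (hg : g ∈ H) : Go H (g * t * g⁻¹) :=
  let ⟨d, b, c, e⟩ := a
  ⟨g * d * g⁻¹, mul_mem (mul_mem hg b) (inv_mem hg), (ord_cj g d).trans c, e.map (MulAut.conj g)⟩

theorem Go.map {G' : Type*} [Group G'] {j : G →* G'} (hj : Injective j) {H : Subgroup G'} (h : j.range ≤ H) {t : G}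
    (a : Go ⊤ t) : Go H (j t) :=
  let ⟨d, _, c, e⟩ := a
  ⟨j d, h ⟨d, rfl⟩, (orderOf_injective j hj d).trans c, e.map j⟩

theorem go_of {j : Af →* G} (hj : Injective j) {k : G} {κ : O q0} (h1 : ∀ v, k * j ⟨v, 1⟩ * k⁻¹ = j ⟨κ.1 v, 1⟩)
    (h2 : ∀ d : L0, d * κ = κ * d → j ⟨0, d⟩ * k = k * j ⟨0, d⟩) {w : V0} (a : Gd κ w) : Go j.range (j ⟨w, 1⟩ * k) := by
  obtain ⟨d, d1, d2, d3, b, d4⟩ := a
  have : Fact (Nat.Prime 3) := ⟨Nat.prime_three⟩
  have c := cm_app (mem_Cn.1 d1).2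
  have d5 : ∀ v, d.1 (d.1 (d.1 v)) = v := fun v => by simpa [pow_succ] using congrArg (fun x : O q0 => x.1 v) d2
  obtain ⟨u, hu⟩ : ∃ u, u = d.1 b + d.1 (d.1 b) := ⟨_, rfl⟩
  have e : u + d.1 w = w + κ.1 u := by
    rw [← vadd_eq_zero, add_add_add_comm, add_comm u, add_add_add_comm, add_comm w, d4, add_comm u, hu, map_add, ← c, ← c, ← c,
      add_add_add_comm (d.1 _), ← map_add, ← map_add, ← map_add, ← map_add, ← d4]
    simp only [map_add, d5]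
    calc _ = d.1 w + d.1 w + (w + w) + (d.1 (d.1 w) + d.1 (d.1 w)) := by abel
      _ = 0 := by simp [vadd_self]
  refine ⟨j ⟨u, d, d1.1⟩, ⟨_, rfl⟩, (orderOf_injective j hj _).trans (orderOf_eq_prime (Af.ext ?_ (Subtype.ext ?_))
    fun k => d3 (congrArg (·.l.1) k)), ?_⟩
  · simp only [pow_succ, pow_zero, one_mul, mul_v, mul_l, hu, coe_mul, LinearEquiv.mul_apply, map_add, d5, one_v]
    calc _ = d.1 b + d.1 b + (b + b) + (d.1 (d.1 b) + d.1 (d.1 b)) := by abel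
      _ = 0 := by simp [vadd_self]
  · simpa [pow_succ] using d2
  · have f : ∀ v, (⟨v, d, d1.1⟩ : Af) = ⟨v, 1⟩ * ⟨0, d, d1.1⟩ := fun v => Af.ext (by simp) (by simp)
    calc _ = j (⟨w, 1⟩ * ⟨κ.1 u, 1⟩) * (j ⟨0, d, d1.1⟩ * k) := by
          rw [← mul_assoc, ← mul_assoc, ← map_mul, ← map_mul]; congr 2; exact Af.ext (by simpa using e) (by simp)
      _ = _ := by rw [h2 _ (mem_Cn.1 d1).2, map_mul, ← h1, f u, map_mul]; group

theorem go_gd {x : Af} (a : Gd x.l x.v) : Go ⊤ x := by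
  have := go_of (j := .id Af) injective_id (k := ⟨0, x.l⟩) (fun v => Af.ext (by simp) (by simp))
    (fun d h => Af.ext (by simp) (Subtype.ext h)) a
  rwa [MonoidHom.range_eq_top.2 surjective_id, show MonoidHom.id Af ⟨x.v, 1⟩ * ⟨0, x.l⟩ = x from Af.ext (by simp) (by simp)] at this

theorem go_A {x : Af} (h : x ∈ ρ.ker) : Go ⊤ x := go_gd (by rw [mem_A.1 h]; exact gd_one _)

theorem fx_of {x : Af} (h : x * x = 1) : x.l.1.1 x.v = x.v := (vadd_eq_zero.1 (congrArg Af.v h)).symm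

theorem conj_t {x : Af} (h : x ∉ ρ.ker) (h2 : x * x = 1) (n : ¬Go ⊤ x) : ∃ g, g * x * g⁻¹ = t0 := by
  obtain ⟨g, a, b | b | b⟩ := cls x.l.2 (congrArg (·.l.1) h2) h
  · exact absurd (go_gd (TA.gd ⟨g, a, b⟩ _ (fx_of h2))) n
  · have e : (⟨0, g, a⟩ : Af)⁻¹ * x * ⟨0, g, a⟩⁻¹⁻¹ = ⟨g⁻¹.1 x.v, el kM, kG.1⟩ :=
      Af.ext (by simp) (Subtype.ext (by simp [b, mul_assoc]))
    rcases gd_k (g⁻¹.1 x.v) (by simpa [b] using congrArg g⁻¹.1 (fx_of h2)) with c | ⟨f, f1, c, f2⟩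
    · have := (go_gd (x := ⟨g⁻¹.1 x.v, el kM, kG.1⟩) c).conj (mem_top ⟨0, g, a⟩)
      rw [← e] at this
      exact absurd (by simpa [mul_assoc] using this) n
    · refine ⟨⟨c, f, f1.1⟩ * ⟨0, g, a⟩⁻¹, ?_⟩
      rw [mul_inv_rev, show ∀ a b x : Af, a * b * x * (b⁻¹ * a⁻¹) = a * (b * x * b⁻¹) * a⁻¹ from fun _ _ _ => by group, e]
      refine Af.ext ?_ (Subtype.ext (mul_inv_eq_of_eq_mul (mem_Cn.1 f1).2))
      simp only [mul_v, mul_l, inv_v, f2, L0.coe_mul, (mem_Cn.1 f1).2, O.mul_apply, O.apply_inv_apply, t0]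
      calc _ = a0 + (c + c) + ((el kM).1 c + (el kM).1 c) := by abel
        _ = _ := by simp [vadd_self]
  · exact absurd (go_gd (b ▸ gd_conj gd_k3 a _ (b ▸ fx_of h2))) n

theorem two_le [Finite G] {D Y : Subgroup G} (h : D ≤ Y) {x : G} (a : x ∈ Y) (b : x ∉ D) : 2 * Nat.card D ≤ Nat.card Y := by
  obtain ⟨c, hc⟩ := card_dvd_of_le h
  have c0 : c ≠ 0 := fun e => (Nat.card_pos (α := Y)).ne' (by rw [hc, e, mul_zero])
  have c1 : c ≠ 1 := fun e => b (eq_of_le_of_card_ge h (by rw [hc, e, mul_one]) ▸ a)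
  rw [hc, mul_comm]
  exact Nat.mul_le_mul_left _ (by omega)

theorem four_le [Finite G] {D Y : Subgroup G} (hY : ∀ a ∈ Y, a * a = 1) (h : D ≤ Y) {x y : G} (a : x ∈ Y) (b : y ∈ Y)
    (c : x ∉ D) (d : y ∉ D) (e : y * x ∉ D) : 4 * Nat.card D ≤ Nat.card Y := by
  have m : ∀ {w}, w * x ∈ D → w ∈ Y := fun k => (mul_mem_cancel_right a).1 (h k)
  let D' : Subgroup G := sg ⟨⟨{w | w ∈ D ∨ w * x ∈ D}, fun {u w} p q => by
    rcases p with p | p <;> rcases q with q | q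
    exacts [.inl (mul_mem p q), .inr (mul_assoc u w x ▸ mul_mem p q),
      .inr (by rw [mul_assoc, cm_of_sq hY (h q) a, ← mul_assoc]; exact mul_mem p q),
      .inl (by
        have := mul_mem p q
        rwa [cm_of_sq hY (m q) a, mul_assoc, ← mul_assoc x, hY x a, one_mul] at this)]⟩, .inl (one_mem _)⟩
  have k1 := two_le (Y := D') (fun _ k => .inl k) (x := x) (.inr (hY x a ▸ one_mem _)) c
  have k2 := two_le (D := D') (fun _ k => k.elim (@h _) m) b fun k => k.elim d e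
  omega

theorem card_A (Z : Subgroup Af) : Nat.card ↥(Z ⊓ ρ.ker) = {v | (⟨v, 1⟩ : Af) ∈ Z}.ncard :=
  (Set.ncard_congr (s := {v | (⟨v, 1⟩ : Af) ∈ Z}) (t := (Z ⊓ ρ.ker : Subgroup Af)) (fun v _ => (⟨v, 1⟩ : Af)) (fun _ a => mem_inf.2 ⟨a, mem_A.2 rfl⟩) (fun _ _ _ _ e => congrArg Af.v e)
    fun x a => have : (⟨x.v, 1⟩ : Af) = x := Af.ext rfl (mem_A.1 a.2).symm; ⟨x.v, show (⟨x.v, 1⟩ : Af) ∈ Z from this.symm ▸ a.1, this⟩).symm

theorem mem_C {v : V0} {x : Af} : (⟨v, 1⟩ : Af) ∈ centralizer {x} ↔ x.l.1.1 v = v := by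
  simp [mem_centralizer_singleton_iff, Af.ext_iff, add_comm v, eq_comm]

theorem sq_A (x : Af) (h : x ∈ ρ.ker) : x * x = 1 := Af.ext (by simp [mem_A.1 h, vadd_self]) (by simp [mem_A.1 h])

theorem card_Y : Nat.card ↥(centralizer {t0} ⊓ ρ.ker) = 2 ^ 12 := by
  rw [card_A, ← ncard_fx1 kG.2 f2_ok]; simp only [mem_C]; rfl

/-- An elementary abelian group without good elements outside the module. -/
structure PB (E : Subgroup Af) : Prop where
  sq : ∀ x ∈ E, x * x = 1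
  bad : ∀ x ∈ E, x ∉ ρ.ker → ¬Go ⊤ x

variable {E : Subgroup Af} (h : PB E)
include h

theorem PB.nm (ht : t0 ∈ E) {u : V0} (a : Gd (el kM) (a0 + u)) : (⟨u, 1⟩ : Af) ∉ E ⊓ ρ.ker := fun k =>
  h.bad _ (mul_mem k.1 ht) (fun e => ne1 kG.2 rp1 (by decide +kernel) (by simpa [ρ, t0] using e))
    (go_gd (by simpa [t0, add_comm u] using a))

theorem PB.le_C {x : Af} (hx : x ∈ E) : E ≤ centralizer {x} := fun _ a => mem_centralizer_singleton_iff.2 (cm_of_sq h.sq a hx)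

theorem PB.b1 (ht : t0 ∈ E) : Nat.card ↥(E ⊓ ρ.ker) ≤ 2 ^ 10 := by
  have := four_le (Y := centralizer {t0} ⊓ ρ.ker) (fun a k => sq_A a k.2) (inf_le_inf_right _ (h.le_C ht)) (x := ⟨b0, 1⟩) (y := ⟨a0, 1⟩)
    ⟨mem_C.2 k_b, mem_A.2 rfl⟩ ⟨mem_C.2 k_a, mem_A.2 rfl⟩ (h.nm ht gd_k1) (h.nm ht gd_k0) (by
      rw [show (⟨a0, 1⟩ * ⟨b0, 1⟩ : Af) = ⟨a0 + b0, 1⟩ from Af.ext (by simp) (by simp)]; exact h.nm ht gd_k2)
  rw [card_Y] at this
  omega

theorem PB.card (n : ¬E ≤ ρ.ker) : Nat.card E ≤ 2 ^ 19 := by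
  obtain ⟨x, a, b⟩ := SetLike.not_le_iff_exists.1 n
  obtain ⟨g, hg⟩ := conj_t b (h.sq x a) (h.bad x a b)
  have c := PB.b1 (E := E.map (MulAut.conj g).toMonoidHom) ⟨by
      rintro _ ⟨y, hy, rfl⟩
      rw [← map_mul, h.sq y hy, map_one], by
      rintro _ ⟨y, hy, rfl⟩ c d
      exact h.bad y hy (fun e => c (ρ.normal_ker.conj_mem y e g)) (by simpa [mul_assoc] using d.conj (mem_top g⁻¹))⟩ ⟨x, a, hg⟩
  have d : Nat.card ↥(E ⊓ ρ.ker) ≤ 2 ^ 10 := by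
    rw [← card_map_of_injective (f := (MulAut.conj g).toMonoidHom) (MulAut.conj g).injective]
    refine (card_le_of_le ?_).trans c
    rintro _ ⟨y, hy, rfl⟩
    exact ⟨⟨y, hy.1, rfl⟩, ρ.normal_ker.conj_mem y hy.2 g⟩
  have e := rank_L (E := E.map ρ) (by rintro _ ⟨y, -, rfl⟩; exact y.l.2) (by
    rintro _ ⟨y, hy, rfl⟩
    rw [← map_mul, h.sq y hy, map_one])
  rw [← Core.card_map_mul_card_inf_ker ρ E]
  exact (Nat.mul_le_mul e d).trans (by decide)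

theorem PB.nTA {y : O q0} (hy : y ∈ E.map ρ) : ¬TA y := fun k => by
  obtain ⟨x, a, rfl⟩ := hy
  refine h.bad x a (fun e => ?_) (go_gd (k.gd _ (fx_of (h.sq x a))))
  obtain ⟨g, -, k⟩ := k
  exact ne1 zG.2 rp1 (by decide +kernel) (by simpa using k.symm.trans e)

theorem PB.p2 : IsPGroup 2 (E.map ρ) := (isPGroup_of_sq h.sq).map ρ

omit h in
theorem norm_map {R : Subgroup Af} (n : R ≤ normalizer (E : Set Af)) : R.map ρ ≤ normalizer (E.map ρ : Set (O q0)) :=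
  (map_mono n).trans (le_normalizer_map ρ)

omit h

/-- A `2`-subgroup of the centralizer. -/
noncomputable def R0 : Subgroup Af := centralizer {t0} ⊓ U.comap ρ

theorem pR : IsPGroup 2 R0 := (pU.comap_of_ker_isPGroup ρ (isPGroup_of_sq sq_A)).to_inf_right

theorem Rb_le : Rb ≤ R0.map ρ := fun l ⟨a, c, b⟩ => ⟨⟨c, l, a.1.1⟩, ⟨mem_centralizer_singleton_iff.2 (Af.ext (by
  simp only [mul_v, t0]
  rw [← vadd_eq_zero, add_add_add_comm, add_comm c, add_add_add_comm, add_comm a0, b, add_comm c, vadd_self])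
  (Subtype.ext (mem_Cn.1 a.1).2)), a.2⟩, rfl⟩

theorem Y_le : centralizer {t0} ⊓ ρ.ker ≤ R0 ⊓ ρ.ker := fun _ a => ⟨⟨a.1, mem_comap.2 (a.2.symm ▸ one_mem _)⟩, a.2⟩

theorem card_R : 2 ^ 26 ≤ Nat.card R0 := by
  rw [← Core.card_map_mul_card_inf_ker ρ R0]
  exact le_trans (by decide) (Nat.mul_le_mul (card_Rb.trans (card_le_of_le Rb_le)) (card_Y.ge.trans (card_le_of_le Y_le)))

include h

theorem PB.bound (ht : t0 ∈ E) (n : R0 ≤ normalizer (E : Set Af)) : Nat.card E ≤ 2 ^ 11 := by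
  have m : el kM ∈ E.map ρ := ⟨t0, ht, rfl⟩
  have s : (E.map ρ : Set (O q0)) ⊆ Rp vL := by_contra fun k => by
    obtain ⟨y, a, b, c⟩ := exists_fix (pU.to_le fun x (k : x ∈ Rb) => k.1.2) h.p2 (Rb_le.trans (norm_map n)) (mem_V.2 (.inl rfl)) k
    exact (Z_cases (mem_Z (let ⟨x, _, e⟩ := a; e ▸ x.l.2) c)).elim b fun k => k.elim (h.nTA a) (h.nTA (mul_mem a m))
  rw [← Core.card_map_mul_card_inf_ker ρ E]
  by_cases c : el vM ∈ E.map ρ
  · obtain ⟨x, a, b⟩ := c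
    have d := two_le (Y := (centralizer {t0} ⊓ centralizer {x}) ⊓ ρ.ker) (inf_le_inf_right _ (le_inf (h.le_C ht) (h.le_C a)))
      (x := ⟨a0, 1⟩) ⟨⟨mem_C.2 k_a, mem_C.2 (by rw [show x.l.1 = _ from b]; exact v_a)⟩, mem_A.2 rfl⟩ (h.nm ht gd_k0)
    rw [card_A (_ ⊓ _)] at d
    simp only [mem_inf, mem_C, show x.l.1 = _ from b, t0, fx_kv] at d
    have e : Nat.card (E.map ρ) ≤ 4 := (Set.ncard_le_ncard (t := {1, el kM, el vM, el kM * el vM}) fun _ k => mem_V.1 (s k)).trans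
      ((Set.ncard_insert_le _ _).trans (Nat.succ_le_succ ((Set.ncard_insert_le _ _).trans (Nat.succ_le_succ ((Set.ncard_insert_le _ _).trans_eq (by simp))))))
    exact (Nat.mul_le_mul e (Nat.le_of_mul_le_mul_left (d.trans (by decide : _ ≤ 2 * 2 ^ 9)) two_pos)).trans (by decide)
  · have e : Nat.card (E.map ρ) ≤ 2 := (Set.ncard_le_ncard (t := {1, el kM}) fun y k => by
      rcases mem_V.1 (s k) with a | a | a | a
      exacts [.inl a, .inr a, absurd (a ▸ k) c, absurd ((mul_mem_cancel_left m).1 (a ▸ k)) c]).trans ((Set.ncard_insert_le _ _).trans_eq (by simp))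
    exact (Nat.mul_le_mul e (h.b1 ht)).trans (by decide)

theorem PB.le_A {R : Subgroup Af} (hR : IsPGroup 2 R) (c : 2 ^ 15 * Nat.card ↥(R ⊓ ρ.ker) ≤ Nat.card R)
    (n : R ≤ normalizer (E : Set Af)) : E ≤ ρ.ker := by_contra fun k => by
  have l : ∀ Z : Subgroup Af, Z.map ρ ≤ L0 := fun Z => by rintro _ ⟨y, -, rfl⟩; exact y.l.2
  obtain ⟨y, a, b, d⟩ := exists_fix (hR.map ρ) h.p2 (norm_map n) (Set.mem_singleton 1) fun s => k fun x m => s ⟨x, m, rfl⟩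
  rw [← Core.card_map_mul_card_inf_ker ρ R] at c
  obtain ⟨P, hP⟩ := ((hR.map ρ).comap_subtype (K := L0)).exists_le_sylow
  obtain ⟨Q, hQ⟩ := (pU.comap_subtype (K := L0)).exists_le_sylow
  have e := eq_of_le_of_card_ge hP (by
    rw [← card_map_of_injective (subtype_injective L0)]
    exact (M.p2 _ (map_subtype_le _) (P.2.map _)).trans ((Nat.le_of_mul_le_mul_right c Nat.card_pos).trans_eq
      (Nat.card_congr (subgroupOfEquivOfLe (l R)).toEquiv).symm))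
  obtain ⟨g, rfl⟩ := exists_smul_eq L0 Q P
  rcases cen_U (y := g.1⁻¹ * y * g) (mul_mem (mul_mem (inv_mem g.2) (l E a)) g.2) (fun u hu => by
    have : g * u * g.1⁻¹ * y * (g * u * g.1⁻¹)⁻¹ * y⁻¹ = 1 :=
      d _ (e.ge (smul_mem_pointwise_smul _ (MulAut.conj g) _ (hQ (show ⟨u, hu.1⟩ ∈ _ from hu.2))))
    calc _ = g.1⁻¹ * (g * u * g.1⁻¹ * y * (g * u * g.1⁻¹)⁻¹ * y⁻¹) * y * g * u := by group
      _ = _ := by rw [this, mul_one]) with f | f
  exacts [b (by simpa [mul_assoc, -mul_eq_left, -mul_eq_right] using congrArg (fun x => g * x * g.1⁻¹) f), h.nTA a ⟨g, g.2, by rw [← f]; group⟩]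

end Cfsg.Lib.S3E
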