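import Cfsg.Agent.Lib.ET.Uq

/-!
# Certificates for vectors of the twenty-dimensional module fixed by elements of order three
-/

set_option autoImplicit false

namespace Cfsg.Lib.S3E

open Subgroup QuadraticMap Cfsg.Lib.Orth Cfsg.Lib.U6 Cfsg.Lib.Calc Cfsg.Lib.F2 MulAction Function Cfsg.Lib.ET Cfsg.Lib.ET.M

/-- A subset product applied to a vector. -/
noncomputable def wA (c : ℕ) (Ms : List ℕ) : ℕ → ℕ → ℕ :=
  List.rec (motive := fun _ => ℕ → ℕ → ℕ) (fun _ v => v)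
    (fun C _ ih i v => forceN (cnd (bit c i) (app 20 C v) v) fun v' => forceN (Nat.succ i) fun i' => ih i' v') Ms

theorem wA_eq (c : ℕ) (Ms : List ℕ) (i v : ℕ) : wA c Ms i v = wApp 20 c Ms i v := by
  induction Ms generalizing i v with
  | nil => rfl
  | cons C Ms ih =>
    have : wA c (C :: Ms) i v = wA c Ms (i + 1) (cnd (bit c i) (app 20 C v) v) := by simp only [wA, forceN_eq]
    rw [this, ih, wApp, bit_eq]
    cases c.testBit i <;> rfl

variable {g h κ : O q0} {C D Kc : ℕ} {H : Subgroup (O q0)}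

theorem cd_lt (v : V0) : cd v < 2 ^ 20 := code1_lt v

theorem rp (a : LRep 20 cd g C) (v : V0) : cd (g.1 v) = app 20 C (cd v) := a v

theorem exists_wA {Ms : List ℕ} (hM : ∀ C ∈ Ms, Good 20 cd H C) (c : ℕ) : ∃ g ∈ H, ∀ x, cd (g.1 x) = wA c Ms 0 (cd x) :=
  let ⟨g, a, b⟩ := exists_wApp hM c 0
  ⟨g, a, fun x => (b x).trans (wA_eq ..).symm⟩

theorem cd_N (a : LRep 20 cd g C) (v : V0) : cd (g.1 v + v) = app 20 (C ^^^ idM 20) (cd v) := by
  rw [cd_sh a, app_xor_left, app_idM (cd_lt v)]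

theorem rp1 : LRep 20 cd (1 : O q0) (idM 20) := LRep.one code1_lt

theorem ne1 (a : LRep 20 cd g C) (b : LRep 20 cd h D) (k : mne 20 20 (idM 20) C D = true) : g ≠ h :=
  a.ne' (sur1' (num_fin 20) _ _) b k

open Classical in
/-- The element with a given matrix. -/
noncomputable def el (C : ℕ) : O q0 := if h : ∃ g : O q0, LRep 20 cd g C then h.choose else 1

theorem el_rep (a : LRep 20 cd g C) : LRep 20 cd (el C) C := by
  have h : ∃ g : O q0, LRep 20 cd g C := ⟨g, a⟩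
  rw [el, dif_pos h]; exact h.choose_spec

theorem el_good (a : Good 20 cd H C) : el C ∈ H ∧ LRep 20 cd (el C) C :=
  let ⟨_, b, c⟩ := a
  ⟨eq1 c (el_rep c) (Nat.beq_refl _) ▸ b, el_rep c⟩

/-- The centralizer. -/
noncomputable def Cn (κ : O q0) : Subgroup (O q0) := L0 ⊓ centralizer {κ}

theorem mem_Cn : g ∈ Cn κ ↔ g ∈ L0 ∧ g * κ = κ * g := and_congr_right' mem_centralizer_singleton_iff

theorem cm_app (a : g * κ = κ * g) (v : V0) : g.1 (κ.1 v) = κ.1 (g.1 v) := congrArg (fun x : O q0 => x.1 v) a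

/-- The class of `w` modulo `[V, κ]` is fixed by an element of order three commuting with `κ`. -/
def Gd (κ : O q0) (w : V0) : Prop := ∃ d ∈ Cn κ, d ^ 3 = 1 ∧ d ≠ 1 ∧ ∃ b, d.1 w + w = κ.1 b + b

theorem Gd.conj {w : V0} (a : Gd κ w) (hg : g ∈ L0) : Gd (g * κ * g⁻¹) (g.1 w) := by
  obtain ⟨d, d1, d2, d3, b, d4⟩ := a
  refine ⟨g * d * g⁻¹, mem_Cn.2 ⟨mul_mem (mul_mem hg d1.1) (inv_mem hg), ?_⟩, by rw [conj_pow, d2]; simp, by simpa using d3,
    g.1 b, ?_⟩
  · rw [conj_mul, conj_mul, (mem_Cn.1 d1).2]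
  · simp only [O.mul_apply, O.inv_apply_apply, ← map_add, d4]

theorem Gd.of_smul (hg : g ∈ Cn κ) (w : V0) (a : Gd κ (g.1 w)) : Gd κ w := by
  have := a.conj (inv_mem hg.1)
  rwa [O.inv_apply_apply, (mem_Cn.1 (inv_mem hg)).2, mul_inv_cancel_right] at this

theorem Gd.add (w c : V0) (a : Gd κ w) : Gd κ (w + (κ.1 c + c)) := by
  obtain ⟨d, d1, d2, d3, b, d4⟩ := a
  refine ⟨d, d1, d2, d3, b + d.1 c + c, ?_⟩
  simp only [map_add, cm_app (mem_Cn.1 d1).2]
  rw [show d.1 w = κ.1 b + b + w from by rw [← d4, vadd_cancel']]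
  calc _ = κ.1 b + κ.1 (d.1 c) + κ.1 c + (b + d.1 c + c) + (w + w) := by abel
    _ = _ := by rw [vadd_self, add_zero]

/-- Commuting matrices. -/
noncomputable def cmK (Kc C : ℕ) : Bool := Nat.beq (mmul 20 C Kc) (mmul 20 Kc C)

theorem good_Cn (hκ : LRep 20 cd κ Kc) (a : Good 20 cd L0 C) (k : cmK Kc C = true) : Good 20 cd (Cn κ) C :=
  let ⟨g, b, c⟩ := a
  ⟨g, mem_Cn.2 ⟨b, eq1 (c.mul hκ) (hκ.mul c) k⟩, c⟩

/-- A vector with an element of order three. -/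
noncomputable def rtK (Kc x D b : ℕ) : Bool := forceB x fun x =>
  band (band (cmK Kc D) (Nat.beq (mpow 20 D 3) (idM 20))) (band (mne 20 20 (idM 20) D (idM 20))
    (band (blt b (2 ^ 20)) (Nat.beq (app 20 D x ^^^ x) (app 20 (Kc ^^^ idM 20) b))))

theorem gd_of (hκ : LRep 20 cd κ Kc) (a : Good 20 cd L0 D) {x b : ℕ} (k : rtK Kc x D b = true) {w : V0} (hw : cd w = x) :
    Gd κ w := by
  simp only [rtK, forceB_eq, band_eq_true, blt_iff] at k
  obtain ⟨d, d1, d2⟩ := good_Cn hκ a k.1.1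
  obtain ⟨c, hc⟩ := cd_ex k.2.2.1
  exact ⟨d, d1, eq1 (d2.pow code1_lt 3) rp1 k.1.2, ne1 d2 rp1 k.2.1, c, cd_inj (by
    rw [cd_sh d2, cd_N hκ, hw, hc]; exact beq_iff.1 k.2.2.2)⟩

/-- Every class is carried to a root. -/
noncomputable def covK (Kc n M R S T Cc : ℕ) (As rs : List ℕ) : Bool := forceB M fun M => forceB As.length fun wd =>
  band (band (Nat.beq (idM 20) (mmul 20 R (Kc ^^^ idM 20) ^^^ (mmul 20 (Kc ^^^ idM 20) S ^^^ mmul 20 Cc T)))
    (band (allLt 20 fun i => blt (get 20 T i) (2 ^ n)) (allL As (cmK Kc))))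
    (allBig (2 ^ n) fun x => forceB (app 20 T (wA (get wd M x) As 0 (app 20 Cc x))) fun y => memN y rs)

theorem cover (hκ : LRep 20 cd κ Kc) (h2 : κ * κ = 1) {P : V0 → Prop} (h1 : ∀ g ∈ Cn κ, ∀ w, P (g.1 w) → P w)
    (h3 : ∀ w c, P w → P (w + (κ.1 c + c))) {n M R S T Cc : ℕ} {As rs : List ℕ} (hA : ∀ C ∈ As, Good 20 cd L0 C)
    (hr : ∀ r ∈ rs, ∀ w, cd w = app 20 Cc r → P w) (k : covK Kc n M R S T Cc As rs = true) (w : V0) (hw : κ.1 w = w) :
    P w := by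
  simp only [covK, forceB_eq, band_eq_true, allBig_iff, allL_iff] at k
  obtain ⟨⟨k1, k2, k3⟩, k4⟩ := k
  have dec : ∀ w, κ.1 w = w → ∃ w1, κ.1 w1 = w1 ∧ cd w1 = app 20 Cc (app 20 T (cd w)) ∧ (P w1 → P w) := fun w hw => by
    obtain ⟨c, hc⟩ := cd_ex (app_lt 20 S (cd w))
    have e := app_idM (cd_lt w)
    rw [beq_iff.1 k1, app_xor_left, app_xor_left, app_mmul, app_mmul, app_mmul, ← cd_N hκ, hw, vadd_self, cd_zero, app_zero,
      Nat.zero_xor, ← hc, ← cd_N hκ] at e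
    refine ⟨w + (κ.1 c + c), ?_, by rw [cd_add, Nat.xor_comm]; exact (congrArg _ e.symm).trans (Nat.xor_xor_cancel_left _ _), fun a => ?_⟩
    · rw [map_add, map_add, hw, ← O.mul_apply, h2, O.one_apply, add_comm c]
    · simpa only [vadd_cancel'] using h3 _ c a
  obtain ⟨w1, a1, a2, a3⟩ := dec w hw
  obtain ⟨g, g1, g2⟩ := exists_wA (fun C m => good_Cn hκ (hA C m) (k3 C m)) (get As.length M (app 20 T (cd w)))
  obtain ⟨w2, -, b2, b3⟩ := dec (g.1 w1) (by rw [← cm_app (mem_Cn.1 g1).2, a1])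
  exact a3 (h1 g g1 _ (b3 (hr _ (mem_of_memN (k4 _ (app_lt_of k2 _))) _ (by rw [b2, g2, a2]))))

/-- All fixed vectors are good. -/
theorem cover_gd (hκ : LRep 20 cd κ Kc) (h2 : κ * κ = 1) {n M R S T Cc : ℕ} {As : List ℕ} {ts : List (ℕ × ℕ × ℕ)}
    (hA : ∀ C ∈ As ++ ts.map (·.2.1), Good 20 cd L0 C) (k : covK Kc n M R S T Cc As (ts.map (·.1)) = true)
    (k' : (ts.all fun t => rtK Kc (app 20 Cc t.1) t.2.1 t.2.2) = true) (w : V0) (hw : κ.1 w = w) : Gd κ w :=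
  cover hκ h2 (fun _ => Gd.of_smul) Gd.add (fun C m => hA C (List.mem_append_left _ m)) (fun _ m _ e =>
    let ⟨t, a, b⟩ := List.mem_map.1 m
    gd_of hκ (hA _ (List.mem_append_right _ (List.mem_map_of_mem a))) (List.all_eq_true.1 k' t a) (b ▸ e)) k w hw

/-- A matrix which agrees with `P` on the common fixed vectors. -/
noncomputable def cert (P : ℕ) (l : List (ℕ × ℕ)) : ℕ := l.foldr (fun p a => mmul 20 p.1 (p.2 ^^^ idM 20) ^^^ a) P

theorem app_cert {P c : ℕ} {l : List (ℕ × ℕ)} (hc : c < 2 ^ 20) (h : ∀ p ∈ l, app 20 p.2 c = c) :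
    app 20 (cert P l) c = app 20 P c := by
  induction l with
  | nil => rfl
  | cons p l ih =>
    rw [cert, List.foldr_cons, app_xor_left, ← cert, ih fun p m => h p (List.mem_cons_of_mem _ m), app_mmul, app_xor_left,
      app_idM hc, h p List.mem_cons_self, Nat.xor_self, app_zero, Nat.zero_xor]

theorem app_eq_zero {m c : ℕ} (h : ∀ j < m, get 20 C j = 0) (hc : c < 2 ^ m) : app 20 C c = 0 := by
  have : ∀ n, appA 20 C c n = 0 := fun n => by
    induction n with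
    | zero => rfl
    | succ n ih =>
      rw [appA_succ, ih, Nat.xor_zero]
      split_ifs with a
      exacts [h n (lt_of_not_ge fun b => by simp [Nat.testBit_lt_two_pow (hc.trans_le (Nat.pow_le_pow_right two_pos b))] at a), rfl]
  exact this 20

/-- The common fixed vectors are counted. -/
noncomputable def fxK (m P Q : ℕ) (Ms Cs : List ℕ) : Bool :=
  band (band (Nat.beq (mmul 20 P Q) (idM 20)) (Nat.beq (mmul 20 Q P) (idM 20))) (band (Nat.ble m 20)
    (band (forceB (cert P (Ms.zip Cs)) fun Z => allLt 20 fun i => blt (get 20 Z i) (2 ^ m))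
      (allL Cs fun C => forceB (mmul 20 (C ^^^ idM 20) Q) fun Z => allLt m fun j => Nat.beq (get 20 Z j) 0)))

theorem fx_lt {m P Q : ℕ} {Ms Cs : List ℕ} (k : fxK m P Q Ms Cs = true) {v : V0} (hv : ∀ C ∈ Cs, app 20 C (cd v) = cd v) :
    app 20 P (cd v) < 2 ^ m := by
  simp only [fxK, forceB_eq, band_eq_true] at k
  exact (app_cert (cd_lt v) fun p a => hv _ (List.of_mem_zip a).2).symm.trans_lt (app_lt_of k.2.2.1 _)

theorem ncard_fx {m P Q : ℕ} {Ms Cs : List ℕ} (k : fxK m P Q Ms Cs = true) {S : Set V0}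
    (hS : ∀ v, v ∈ S ↔ ∀ C ∈ Cs, app 20 C (cd v) = cd v) : S.ncard = 2 ^ m := by
  have k' := k
  simp only [fxK, forceB_eq, band_eq_true, allL_iff, allLt_iff, beq_iff, ble_iff] at k
  obtain ⟨⟨k1, k2⟩, k3, -, k4⟩ := k
  rw [← Finset.card_range (2 ^ m), ← Set.ncard_coe_finset]
  refine Set.ncard_congr (fun v _ => app 20 P (cd v)) (fun v a => by simpa using fx_lt k' ((hS v).1 a)) (fun u v _ _ e => cd_inj ?_)
    fun c hc => ?_
  · rw [← app_idM (cd_lt u), ← k2, app_mmul, e, ← app_mmul, k2, app_idM (cd_lt v)]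
  · have hc' : c < 2 ^ m := by simpa using hc
    obtain ⟨v, hv⟩ := cd_ex (app_lt 20 Q c)
    refine ⟨v, (hS v).2 fun C a => ?_, by rw [hv, ← app_mmul, k1, app_idM (hc'.trans_le (Nat.pow_le_pow_right two_pos k3))]⟩
    have := app_eq_zero (k4 C a) hc'
    rwa [app_mmul, ← hv, app_xor_left, app_idM (cd_lt v), Nat.xor_eq_zero_iff] at this

theorem ncard_fx1 {m P Q : ℕ} {Ms : List ℕ} (a : LRep 20 cd g C) (k : fxK m P Q Ms [C] = true) :
    {v | g.1 v = v}.ncard = 2 ^ m := ncard_fx k fun v => by simp [← rp a, cd_inj.eq_iff]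

end Cfsg.Lib.S3E
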