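import Cfsg.Agent.Lib.S3E.Mod
import Cfsg.Agent.Lib.S3E.Abs

/-!
# The classes of involutions
-/

set_option autoImplicit false
set_option maxRecDepth 100000

namespace Cfsg.Lib.S3E

open Subgroup QuadraticMap Cfsg.Lib.Orth Cfsg.Lib.U6 Cfsg.Lib.Calc Cfsg.Lib.F2 MulAction Function Cfsg.Lib.ET Cfsg.Lib.ET.M

theorem isoP {F : Type*} [Field F] [Fintype F] (hF : Fintype.card F = 4) : Nonempty (L0 ≃* PSU 6 F 2) :=
  let ⟨e⟩ := iso; let ⟨f, _⟩ := U6.exists_iso hF; ⟨e.symm.trans f⟩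

instance simple_L : IsSimpleGroup L0 := let ⟨e⟩ := iso; have := U6.simple; e.symm.isSimpleGroup

theorem rank_L {E : Subgroup (O q0)} (h : E ≤ L0) (hE : ∀ x ∈ E, x * x = 1) : Nat.card E ≤ 2 ^ 9 := by
  obtain ⟨e⟩ := iso
  rw [← Nat.card_congr (subgroupOfEquivOfLe h).toEquiv, ← card_map_of_injective (f := e.symm.toMonoidHom) e.symm.injective]
  refine rank9 _ ?_
  rintro _ ⟨x, hx, rfl⟩
  rw [← map_mul, show x * x = 1 from Subtype.ext (hE _ hx), map_one]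

theorem cls {y : O q0} (hy : y ∈ L0) (h2 : y * y = 1) (h1 : y ≠ 1) :
    ∃ g ∈ L0, y = g * el zM * g⁻¹ ∨ y = g * el kM * g⁻¹ ∨ y = g * el k3M * g⁻¹ := by
  obtain ⟨e⟩ := isoP (F := Fischer.F4) rfl
  obtain ⟨r, hr⟩ := inv3 (F := Fischer.F4) rfl
  have a : ∀ {x} (m : x ∈ L0), x * x = 1 → x ≠ 1 → e ⟨x, m⟩ * e ⟨x, m⟩ = 1 ∧ e ⟨x, m⟩ ≠ 1 := fun m b c =>
    ⟨by rw [← map_mul, e.map_eq_one_iff]; exact Subtype.ext b, fun d => c (congrArg Subtype.val (e.map_eq_one_iff.1 d))⟩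
  have b : ∀ {x y : L0}, (e x * e x = 1 ∧ e x ≠ 1) → (e y * e y = 1 ∧ e y ≠ 1) → r (e x) = r (e y) →
      ∃ g ∈ L0, y.1 = g * x * g⁻¹ := fun c d f => by
    obtain ⟨g, hg⟩ := isConj_iff.1 (e.symm.toMonoidHom.map_isConj ((hr _ c.1 c.2).2 _ d.1 d.2 f))
    exact ⟨g, g.2, by simpa using congrArg Subtype.val hg.symm⟩
  have n : ∀ {x y : O q0}, (∃ g ∈ L0, y = g * x * g⁻¹) → {v | x.1 v = v}.ncard = {v | y.1 v = v}.ncard := fun ⟨g, _, c⟩ =>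
    ncard_conj g.1.toEquiv fun v => by simp [c]
  have a0 := a hy h2 h1
  have a1 := a zG.1 (sq1 zG.2) (ne1 zG.2 rp1 (by decide +kernel))
  have a2 := a kG.1 (sq1 kG.2) (ne1 kG.2 rp1 (by decide +kernel))
  have a3 := a k3G.1 (sq1 k3G.2) (ne1 k3G.2 rp1 (by decide +kernel))
  have f1 := ncard_fx1 zG.2 f1_ok
  have f2 := ncard_fx1 kG.2 f2_ok
  have f3 := ncard_fx1 k3G.2 f3_ok
  have n1 := mt (b a1 a2) fun k => absurd (f1 ▸ f2 ▸ n k) (by decide)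
  have n2 := mt (b a1 a3) fun k => absurd (f1 ▸ f3 ▸ n k) (by decide)
  have n3 := mt (b a2 a3) fun k => absurd (f2 ▸ f3 ▸ n k) (by decide)
  have r0 := (hr _ a0.1 a0.2).1
  have r1 := (hr _ a1.1 a1.2).1
  have r2 := (hr _ a2.1 a2.2).1
  have r3 := (hr _ a3.1 a3.2).1
  rcases (by omega : r (e ⟨_, zG.1⟩) = r (e ⟨y, hy⟩) ∨ r (e ⟨_, kG.1⟩) = r (e ⟨y, hy⟩) ∨ r (e ⟨_, k3G.1⟩) = r (e ⟨y, hy⟩))
    with k | k | k
  exacts [(b a1 a0 k).imp fun _ c => ⟨c.1, .inl c.2⟩, (b a2 a0 k).imp fun _ c => ⟨c.1, .inr (.inl c.2)⟩,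
    (b a3 a0 k).imp fun _ c => ⟨c.1, .inr (.inr c.2)⟩]

theorem faith0 (g : L0) (h : ∀ v : V0, g • v = v) : g = 1 := Subtype.ext (O.ext h)

/-- The module twisted by an automorphism. -/
def Tw (_ : MulAut L0) : Type := V0

instance s3eCls6 (β : MulAut L0) : AddCommGroup (Tw β) := inferInstanceAs (AddCommGroup V0)
noncomputable instance s3eCls7 (β : MulAut L0) : DistribMulAction L0 (Tw β) := DistribMulAction.compHom V0 β.toMonoidHom

theorem twist (β : MulAut L0) : ∃ θ : V0 ≃+ V0, ∀ (l : L0) v, θ (l.1.1 v) = (β l).1.1 (θ v) :=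
  exists_equiv (V' := Tw β) vadd_self mf.cardV faith0 (vadd_self (V := V0)) mf.cardV fun _ h => β.map_eq_one_iff.1 (faith0 _ h)

theorem ind {κ : O q0} (h : ∀ l ∈ L0, κ * l * κ⁻¹ ∈ L0) (h2 : κ * κ = 1) (hn : κ ∉ L0) :
    ∃ α : MulAut L0, α * α = 1 ∧ (∀ g, α ≠ MulAut.conj g) ∧ ∀ l : L0, (α l).1 = κ * l * κ⁻¹ := by
  obtain ⟨α, a, b⟩ : ∃ α : MulAut L0, α * α = 1 ∧ ∀ l : L0, (α l).1 = κ * l * κ⁻¹ :=
    ⟨L0.normalizerMonoidHom ⟨κ, mem_norm h⟩, by rw [← map_mul, ← map_one L0.normalizerMonoidHom]; exact congrArg _ (Subtype.ext h2),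
      fun _ => rfl⟩
  refine ⟨α, a, fun g k => hn ?_, b⟩
  have : g.1⁻¹ * κ = 1 := O.ext (schur (f := (g.1⁻¹ * κ).1.toLinearMap.toAddMonoidHom)
    (LinearEquiv.injective _) fun l hl v => cm_app (by
      have : κ * l * κ⁻¹ = g * l * g.1⁻¹ := by simpa [k] using (b ⟨l, hl⟩).symm
      rw [mul_assoc, eq_mul_of_mul_inv_eq this]; group) v)
  exact inv_mul_eq_one.1 this ▸ g.2

theorem ncj {κ κ' : O q0} {α α' : MulAut L0} (a : ∀ l : L0, (α l).1 = κ * l * κ⁻¹) (b : ∀ l : L0, (α' l).1 = κ' * l * κ'⁻¹)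
    (k : IsConj α α') : {v | κ.1 v = v}.ncard = {v | κ'.1 v = v}.ncard := by
  obtain ⟨β, k⟩ := isConj_iff.1 k
  obtain ⟨θ, t⟩ := twist β
  have := schur (f := ((θ.symm.trans (κ.1.toAddEquiv.trans θ)).trans κ'⁻¹.1.toAddEquiv).toAddMonoidHom)
    (AddEquiv.injective _) fun l hl v => by
      obtain ⟨v, rfl⟩ := θ.surjective v
      obtain ⟨m, hm⟩ := β.surjective ⟨l, hl⟩
      obtain rfl : (β m).1 = l := congrArg Subtype.val hm
      have c : β (α m) = α' (β m) := by rw [← k]; simp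
      have d : κ.1 (m.1.1 v) = (α m).1.1 (κ.1 v) := by simp [a]
      change κ'⁻¹.1 (θ (κ.1 (θ.symm _))) = (β m).1.1 (κ'⁻¹.1 (θ (κ.1 (θ.symm _))))
      rw [← t, θ.symm_apply_apply, θ.symm_apply_apply, d, t, c, b, O.mul_apply, O.mul_apply, O.inv_apply_apply]
  exact ncard_conj θ.toEquiv fun v => by simpa using congrArg κ'.1 (this (θ v))

theorem outer {α : MulAut L0} (h2 : α * α = 1) (hn : ∀ g, α ≠ MulAut.conj g) : ∃ (β : MulAut L0) (κ : O q0),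
    (∀ w, κ.1 w = w → Gd κ w) ∧ ∀ l : L0, ((β * α * β⁻¹) l).1 = κ * l * κ⁻¹ := by
  obtain ⟨e⟩ := isoP (F := Fischer.F4) rfl
  obtain ⟨γ₁, γ₃, h⟩ := outer2 (F := Fischer.F4) rfl
  have h' : ∀ α : MulAut L0, α * α = 1 → (∀ g, α ≠ MulAut.conj g) →
      IsConj ((MulAut.congr e).symm γ₁) α ∨ IsConj ((MulAut.congr e).symm γ₃) α := fun α a b => by
    have c : ∀ {γ}, IsConj γ (MulAut.congr e α) → IsConj ((MulAut.congr e).symm γ) α := fun k =>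
      (MulAut.congr e).symm_apply_apply α ▸ (MulAut.congr e).symm.toMonoidHom.map_isConj k
    refine (h (MulAut.congr e α) (by rw [← map_mul, a, map_one]) fun g k => b (e.symm g) (MulEquiv.ext fun x => e.injective ?_)).imp c c
    simpa using DFunLike.congr_fun k (e x)
  obtain ⟨α₁, a1, a2, a3⟩ := ind (fun _ => s_norm) (sq1 sR) s_not
  obtain ⟨α₃, b1, b2, b3⟩ := ind (κ := el sgM * el tauM) (fun l hl => by
    simpa only [mul_inv_rev, mul_assoc] using s_norm (mul_mem (mul_mem tG.1 hl) (inv_mem tG.1))) (sq1 stR)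
    fun k => s_not ((mul_mem_cancel_right tG.1).1 k)
  have nc : ¬IsConj α₁ α₃ := fun k => absurd ((ncard_fx1 sR f4_ok).symm.trans ((ncj a3 b3 k).trans (ncard_fx1 stR f5_ok))) (by decide)
  have : IsConj α α₁ ∨ IsConj α α₃ := by
    rcases h' _ a1 a2 with c | c <;> rcases h' _ b1 b2 with d | d <;> rcases h' _ h2 hn with f | f
    all_goals first | exact .inl (f.symm.trans c) | exact .inr (f.symm.trans d) | exact absurd (c.symm.trans d) nc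
  rcases this with c | c <;> obtain ⟨β, k⟩ := isConj_iff.1 c
  exacts [⟨β, _, gd_s, k ▸ a3⟩, ⟨β, _, gd_st, k ▸ b3⟩]

end Cfsg.Lib.S3E
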