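import Cfsg.Agent.Lib.S3E.Aff

/-!
# Strong closure of the module
-/

set_option autoImplicit false

namespace Cfsg.Lib.S3E

open Subgroup QuadraticMap Cfsg.Lib.Orth Cfsg.Lib.U6 Cfsg.Lib.Calc Cfsg.Lib.F2 MulAction Function Cfsg.Lib.ET Cfsg.Lib.ET.M
open scoped Pointwise

variable {X : Type*} [Group X] {A H : Subgroup X}

theorem emb (hA : ∀ a ∈ A, a * a = 1) (c : Nat.card A = 2 ^ 20) {s : L0 →* X} (hs : ∀ l, s l ∈ normalizer (A : Set X))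
    (hf : ∀ l, (∀ a ∈ A, s l * a * (s l)⁻¹ = a) → l = 1) :
    ∃ j : Af →* X, Injective j ∧ (∀ l, j ⟨0, l⟩ = s l) ∧ ∀ a, a ∈ A ↔ ∃ v, j ⟨v, 1⟩ = a := by
  let : CommGroup A := { (inferInstance : Group A) with mul_comm := fun a b => Subtype.ext (cm_of_sq hA a.2 b.2) }
  let : DistribMulAction L0 (Additive A) :=
    { smul := fun l a => .ofMul ⟨s l * a.toMul * (s l)⁻¹, cj_mem (hs l) a.toMul.2⟩
      one_smul := fun a => Subtype.ext (show s 1 * _ * (s 1)⁻¹ = _ by simp; rfl)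
      mul_smul := fun l m a => Subtype.ext (show s (l * m) * _ * (s (l * m))⁻¹ = s l * (s m * _ * (s m)⁻¹) * (s l)⁻¹ by
        simp [mul_assoc])
      smul_zero := fun l => Subtype.ext (show s l * 1 * (s l)⁻¹ = 1 by simp)
      smul_add := fun l a b => Subtype.ext (show s l * (a.toMul * b.toMul) * (s l)⁻¹ = s l * _ * (s l)⁻¹ * (s l * _ * (s l)⁻¹) by
        simp [mul_assoc]) }
  obtain ⟨θ, h⟩ := exists_equiv (V' := Additive A) vadd_self mf.cardV faith0 (fun a => Subtype.ext (hA _ a.toMul.2)) c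
    fun l k => hf l fun a b => congrArg (·.toMul.1) (k (.ofMul ⟨a, b⟩))
  have h' : ∀ (l : L0) v, ((θ (l.1.1 v)).toMul : X) = s l * (θ v).toMul * (s l)⁻¹ := fun l v => congrArg (·.toMul.1) (h l v)
  refine ⟨MonoidHom.mk' (fun x => (θ x.v).toMul * s x.l) fun x y => by simp [h', mul_assoc], (injective_iff_map_eq_one _).2 fun x e => ?_,
    fun l => by simp, fun a => ⟨fun b => ⟨θ.symm (.ofMul ⟨a, b⟩), by simp⟩, fun ⟨v, b⟩ => b ▸ by simp⟩⟩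
  have e1 : s x.l ∈ A := (mul_mem_cancel_left (θ x.v).toMul.2).1 ((show (θ x.v).toMul * s x.l = 1 from e).symm ▸ one_mem A)
  have e2 := hf _ fun a b => mul_inv_eq_of_eq_mul (cm_of_sq hA e1 b)
  exact Af.ext (by simpa [e2] using e) e2

theorem syl [Finite X] {p : ℕ} [Fact p.Prime] {C R B : Subgroup X} (hR : IsPGroup p R) (hB : IsPGroup p B) (r : R ≤ C) (b : B ≤ C) :
    ∃ c ∈ C, ∃ P ≤ C, IsPGroup p P ∧ R ≤ P ∧ ∀ x ∈ B, c * x * c⁻¹ ∈ P := by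
  obtain ⟨P, hP⟩ := (hR.comap_subtype (K := C)).exists_le_sylow
  obtain ⟨Q, hQ⟩ := (hB.comap_subtype (K := C)).exists_le_sylow
  obtain ⟨c, rfl⟩ := exists_smul_eq C Q P
  exact ⟨c, c.2, _, map_subtype_le _, (c • Q).2.map _, fun x a => ⟨⟨x, r a⟩, hP a, rfl⟩,
    fun x a => ⟨_, smul_mem_pointwise_smul _ (MulAut.conj c) _ (hQ (show ⟨x, b a⟩ ∈ _ from a)), rfl⟩⟩

/-- The conjugate subgroup. -/
def cj (g : X) (A : Subgroup X) : Subgroup X := A.comap (MulAut.conj g).toMonoidHom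

theorem mem_cj {g x : X} : x ∈ cj g A ↔ g * x * g⁻¹ ∈ A := Iff.rfl

theorem card_cj (g : X) (A : Subgroup X) : Nat.card (cj g A) = Nat.card A :=
  Nat.card_congr ((MulAut.conj g).toEquiv.subtypeEquiv fun _ => Iff.rfl)

theorem card_cm {j : Af →* X} (hj : Injective j) (Y : Subgroup X) : Nat.card (Y.comap j) = Nat.card ↥(Y ⊓ j.range) := by
  rw [← card_map_of_injective hj, map_comap_eq, inf_comm]

variable [Finite X] (hH : H = normalizer (A : Set X)) {j : Af →* X} (hj : Injective j) (hA : ∀ a, a ∈ A ↔ ∃ v, j ⟨v, 1⟩ = a)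
  (h0 : j.range ≤ H) (h2 : Two H j.range) (ho : ∀ t ∈ H, t ∉ j.range → t * t = 1 → Go H t)
  (hs : ∀ g, ∀ d ∈ H, orderOf d = 3 → g * d * g⁻¹ ∈ H → g ∈ H)
include hj hA

omit [Finite X] in
theorem j_A {x : Af} : j x ∈ A ↔ x ∈ ρ.ker :=
  (hA _).trans ⟨fun ⟨_, e⟩ => hj e ▸ mem_A.2 rfl, fun h => ⟨x.v, congrArg j (Af.ext rfl (mem_A.1 h).symm)⟩⟩

omit [Finite X] hj in
theorem sqA {a g : X} (h : g * a * g⁻¹ ∈ A) : a * a = 1 := by
  obtain ⟨v, e⟩ := (hA _).1 h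
  have := congrArg j (sq_A ⟨v, 1⟩ (mem_A.2 rfl))
  rw [map_mul, e, map_one] at this
  simpa [mul_assoc] using congrArg (g⁻¹ * · * g) this

include hH h0 ho hs

omit ho in
theorem bad {t g : X} (b : t ∉ A) (c : g * t * g⁻¹ ∈ A) : ¬Go H t := fun k => by
  obtain ⟨v, e⟩ := (hA _).1 c
  obtain ⟨h, d, f⟩ := fuse hs k (g := g) (e ▸ (go_A (mem_A.2 rfl)).map hj h0)
  exact b (((hH ▸ d :) t).2 (f ▸ c))

theorem pb (g : X) : H ⊓ cj g A ≤ j.range ∧ PB ((H ⊓ cj g A).comap j) :=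
  ⟨fun t a => by_contra fun k => bad hH hj hA h0 hs (fun b => k (let ⟨_, e⟩ := (hA _).1 b; ⟨_, e⟩)) a.2 (ho t a.1 k (sqA hA a.2)),
    fun x a => hj (by rw [map_mul, sqA hA a.2, map_one]),
    fun x a b c => bad hH hj hA h0 hs (mt (j_A hj hA).1 b) a.2 (c.map hj h0)⟩

theorem tconj {t g : X} (a : t ∈ H) (b : t ∉ A) (c : g * t * g⁻¹ ∈ A) : ∃ y, j y * t * (j y)⁻¹ = j t0 := by
  obtain ⟨p, q⟩ := pb hH hj hA h0 ho hs g
  obtain ⟨x, rfl⟩ := p ⟨a, c⟩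
  obtain ⟨y, e⟩ := conj_t (mt (j_A hj hA).2 b) (q.sq x ⟨a, c⟩) (q.bad x ⟨a, c⟩ (mt (j_A hj hA).2 b))
  exact ⟨y, by rw [← e, map_mul, map_mul, map_inv]⟩

theorem wc (cA : Nat.card A = 2 ^ 20) {T : Subgroup X} (hT : IsPGroup 2 T) (h : A ≤ T) : T ≤ H := hH ▸ wc_norm hT h fun x a => by
  obtain ⟨p, q⟩ := pb hH hj hA h0 ho hs x⁻¹
  have l : H ⊓ cj x⁻¹ A = cj x⁻¹ A := inf_eq_right.2 fun y b => by simpa [mul_assoc, hH] using a _ b
  rw [l] at p q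
  refine mem_norm fun y b => by_contra fun k => ?_
  have m : x * y * x⁻¹ ∈ cj x⁻¹ A := mem_cj.2 (by simpa [mul_assoc] using b)
  obtain ⟨z, e⟩ := p m
  have := q.card fun n => k (e ▸ (j_A hj hA).2 (n (mem_comap.2 (e ▸ m))))
  rw [card_cm hj, inf_eq_left.2 p, card_cj, cA] at this
  omega

include h2

theorem bigR {g : X} (c : g * j t0 * g⁻¹ ∈ A) : ∃ R ≤ centralizer {j t0} ⊓ H, IsPGroup 2 R ∧ R0.map j ≤ R ∧
    ∀ Y ≤ H, Nat.card Y = Nat.card R → 2 ^ 26 ≤ Nat.card ↥(Y ⊓ j.range) := by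
  have l : R0.map j ≤ centralizer {j t0} ⊓ H := by
    rintro _ ⟨x, a, rfl⟩
    exact ⟨mem_centralizer_singleton_iff.2 (by rw [← map_mul, mem_centralizer_singleton_iff.1 a.1, map_mul]), h0 ⟨_, rfl⟩⟩
  have r := card_R.trans_eq (card_map_of_injective hj).symm
  by_cases k : H ≤ j.range
  · exact ⟨_, l, pR.map j, le_rfl, fun Y a b => by rwa [inf_eq_left.2 (a.trans k), b]⟩
  obtain ⟨k, k1, k2⟩ := SetLike.not_le_iff_exists.1 k
  have n : j t0 ∉ A := fun e => ne1 kG.2 rp1 (by decide +kernel) ((j_A hj hA).1 e)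
  obtain ⟨y, e⟩ := tconj hH hj hA h0 ho hs (mul_mem (mul_mem k1 (h0 ⟨t0, rfl⟩)) (inv_mem k1)) (g := g * k⁻¹)
    (fun e => n (((hH ▸ k1 :) _).2 e)) (by simpa [mul_assoc] using c)
  obtain ⟨i, m, o, f⟩ := Nat.exists_eq_two_pow_mul_odd (orderOf_pos (j y * k)).ne'
  have u : j y * k ∈ centralizer {j t0} ⊓ H :=
    ⟨mem_centralizer_singleton_iff.2 (mul_inv_eq_iff_eq_mul.1 (Eq.trans (by group) e)), mul_mem (h0 ⟨y, rfl⟩) k1⟩
  obtain ⟨d, d1, P, p1, p2, p3, p4⟩ := syl (pR.map j) (IsPGroup.of_card (n := i) (by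
    rw [Nat.card_zpowers, orderOf_pow_of_dvd o.pos.ne' (f ▸ dvd_mul_left _ _), f, Nat.mul_div_cancel _ o.pos])) l
    (zpowers_le.2 (pow_mem u m))
  refine ⟨P, p1, p2, p3, fun Y a b => ?_⟩
  have := two_le p3 (p4 _ (mem_zpowers _)) fun e => k2 ((mul_mem_cancel_left (j.mem_range.2 ⟨y, rfl⟩)).1
    (h2.of_odd u.2 o ((h2.conj d1.2 (pow_mem u.2 m)).1 (map_le_range j _ e))))
  have := (h2.mono a).card
  omega

theorem core (cA : Nat.card A = 2 ^ 20) {t g : X} (a : t ∈ H) (c : g * t * g⁻¹ ∈ A) : t ∈ A := by_contra fun b => by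
  obtain ⟨y, e⟩ := tconj hH hj hA h0 ho hs a b c
  replace c : g * (j y)⁻¹ * j t0 * (g * (j y)⁻¹)⁻¹ ∈ A := by simpa [← e, mul_assoc] using c
  clear a b e
  obtain ⟨R, r1, r2, r3, r4⟩ := bigR hH hj hA h0 h2 ho hs c
  generalize g * (j y)⁻¹ = g at c
  have sq : ∀ g, ∀ x ∈ cj g A, x * x = 1 := fun g x a => sqA hA a
  obtain ⟨d, d1, P, -, p2, p3, p4⟩ := syl r2 (isPGroup_of_sq (sq g)) (r1.trans inf_le_left)
    fun x a => mem_centralizer_singleton_iff.2 (cm_of_sq (sq g) a c)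
  replace c : g * d⁻¹ * j t0 * (g * d⁻¹)⁻¹ ∈ A := by
    simpa [mul_assoc, ← mul_assoc (j t0), ← mem_centralizer_singleton_iff.1 d1] using c
  have w : cj (g * d⁻¹)⁻¹ P ≤ H := wc hH hj hA h0 ho hs cA (p2.comap_of_injective _ (MulAut.conj _).injective) fun x a => by
    simpa [mem_cj, mul_assoc] using p4 (g⁻¹ * x * g) (by simpa [mem_cj, mul_assoc] using a)
  generalize g * d⁻¹ = g at c w
  have nm : ∀ {g x}, j x ∈ H → g * j x * g⁻¹ ∈ H → x ∈ normalizer ((H ⊓ cj g A).comap j : Set Af) := fun {g x} a b =>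
    mem_norm fun z k => ⟨by simpa using mul_mem (mul_mem a k.1) (inv_mem a), by
      simpa [mem_cj, mul_assoc] using cj_mem (hH ▸ b :) (mem_cj.1 k.2)⟩
  have w' : ∀ x ∈ R, g * x * g⁻¹ ∈ H := fun x a => w (by simpa [mem_cj, mul_assoc] using p3 a)
  have b1 := (pb hH hj hA h0 ho hs g).2.bound ⟨h0 ⟨_, rfl⟩, c⟩ fun x a => nm (h0 ⟨_, rfl⟩) (w' _ (r3 ⟨x, a, rfl⟩))
  rw [card_cm hj, inf_eq_left.2 (pb hH hj hA h0 ho hs g).1] at b1
  have b2 := (pb hH hj hA h0 ho hs g⁻¹).2.le_A (R := (cj g⁻¹ R).comap j)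
    ((r2.comap_of_injective _ (MulAut.conj _).injective).comap_of_injective j hj) (by
      have b3 : Nat.card ↥((cj g⁻¹ R).comap j ⊓ ρ.ker) ≤ 2 ^ 11 := by
        rw [← card_map_of_injective hj]
        refine (card_le_of_le ?_).trans ((card_cj g⁻¹ _).trans_le b1)
        rintro _ ⟨x, a, rfl⟩
        exact ⟨(r1 a.1).2, by simpa [mem_cj, mul_assoc] using (j_A hj hA).2 a.2⟩
      have := r4 (cj g⁻¹ R) (fun x a => by simpa [mul_assoc] using w' _ a) (card_cj _ _)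
      rw [card_cm hj (cj _ _)]
      omega) fun x a => nm (h0 ⟨_, rfl⟩) (r1 a).2
  have b4 : (centralizer {t0} ⊓ ρ.ker).map j ≤ H ⊓ cj g A := by
    rintro _ ⟨x, a, rfl⟩
    have m : g * j x * g⁻¹ ∈ H ⊓ cj g⁻¹ A := ⟨w' _ (r3 ⟨x, (Y_le a).1, rfl⟩), by simpa [mem_cj, mul_assoc] using (j_A hj hA).2 a.2⟩
    obtain ⟨z, e⟩ := (pb hH hj hA h0 ho hs g⁻¹).1 m
    exact ⟨h0 ⟨_, rfl⟩, mem_cj.2 (e ▸ (j_A hj hA).2 (b2 (mem_comap.2 (e ▸ m))))⟩
  have := card_le_of_le b4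
  rw [card_map_of_injective hj, card_Y] at this
  omega

end Cfsg.Lib.S3E
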