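import Cfsg.Agent.Lib.S3E.Dat

/-!
# Facts about the twenty-dimensional module
-/

set_option autoImplicit false
set_option maxRecDepth 100000

namespace Cfsg.Lib.S3E

open Subgroup QuadraticMap Cfsg.Lib.Orth Cfsg.Lib.U6 Cfsg.Lib.Calc Cfsg.Lib.F2 MulAction Function Cfsg.Lib.ET Cfsg.Lib.ET.M

theorem gE : ∀ C ∈ eL, Good 20 cd L0 C := good_zip code1_lt goodA' e_ok (by decide +kernel)

theorem gE' : (∀ C ∈ [zM, kM, vM, k3M, tauM], Good 20 cd L0 C) ∧ (∀ C ∈ pL ++ rL, Good 20 cd L0 C) ∧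
    (∀ C ∈ c1A ++ c1t.map (·.2.1), Good 20 cd L0 C) ∧ (∀ C ∈ c2A ++ c2t.map (·.2.1), Good 20 cd L0 C) ∧
    (∀ C ∈ c3A ++ c3t.map (·.2.1), Good 20 cd L0 C) ∧ (∀ C ∈ c4A ++ c4t.map (·.2.1), Good 20 cd L0 C) ∧
    (∀ C ∈ c5A ++ c5t.map (·.2.1), Good 20 cd L0 C) ∧ Good 20 cd L0 gzM ∧
    (∀ C ∈ c0A ++ c0t.map (·.2.1), Good 20 cd L0 C) ∧ ∀ C ∈ gS, Good 20 cd L0 C :=
  have h9 := List.forall_mem_append.1 gE
  have h8 := List.forall_mem_append.1 h9.1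
  have h7 := List.forall_mem_append.1 h8.1
  have h6 := List.forall_mem_append.1 h7.1
  have h5 := List.forall_mem_append.1 h6.1
  have h4 := List.forall_mem_append.1 h5.1
  have h3 := List.forall_mem_append.1 h4.1
  have h2 := List.forall_mem_append.1 h3.1
  have h1 := List.forall_mem_append.1 h2.1
  ⟨h1.1, h1.2, h2.2, h3.2, h4.2, h5.2, h6.2, h7.2 _ List.mem_cons_self, h8.2, h9.2⟩

theorem zG : el zM ∈ L0 ∧ LRep 20 cd (el zM) zM := el_good (gE'.1 _ (by simp))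
theorem kG : el kM ∈ L0 ∧ LRep 20 cd (el kM) kM := el_good (gE'.1 _ (by simp))
theorem vG : el vM ∈ L0 ∧ LRep 20 cd (el vM) vM := el_good (gE'.1 _ (by simp))
theorem k3G : el k3M ∈ L0 ∧ LRep 20 cd (el k3M) k3M := el_good (gE'.1 _ (by simp))
theorem tG : el tauM ∈ L0 ∧ LRep 20 cd (el tauM) tauM := el_good (gE'.1 _ (by simp))
theorem sR : LRep 20 cd (el sgM) sgM :=
  let ⟨_, a⟩ := exists_O (C := sgM) (by decide +kernel) (by decide +kernel); el_rep a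
theorem stR : LRep 20 cd (el sgM * el tauM) stM := sR.mul tG.2

variable {g y : O q0} {C : ℕ} {B : Subgroup (O q0)}

theorem sq1 (a : LRep 20 cd g C) (k : Nat.beq (mmul 20 C C) (idM 20) = true := by decide +kernel) : g * g = 1 :=
  eq1 (a.mul a) rp1 k

theorem L_le (h : ∀ C ∈ gL, Good 20 cd B C) : L0 ≤ B := by
  rintro _ ⟨x, rfl⟩
  refine (eq_top_iff.2 (U6.closure_gam.ge.trans ((closure_le (B.comap exists_mu.choose)).2 ?_))).ge (mem_top x)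
  rintro _ ⟨c, rfl⟩
  obtain ⟨g, a, b⟩ : Good 20 cd B (mc c) := by
    rcases nth_mem (idM 20) (idM 20 :: gL) c with k | k
    · exact (show mc c = _ from k) ▸ Good.one code1_lt B
    · exact (List.mem_cons.1 k).elim (fun k => (show mc c = _ from k) ▸ Good.one code1_lt B) (h _)
  exact mem_comap.2 (eq1 b (exists_mu.choose_spec c) (Nat.beq_refl _) ▸ a)

theorem U_le (h : ∀ C ∈ uL, Good 20 cd B C) : L0 ⊓ U ≤ B :=
  inf_eq_left.1 (eq_of_le_of_card_ge inf_le_left ((p2 _ inf_le_left pU.to_inf_right).trans (cT_N.ge.trans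
    (coded.low' (fun L h => cd_ex (cT_c L h)) cT_ok fun C k => good_inf (goodU C k) (h C k)))))

theorem card_U : 2 ^ 15 ≤ Nat.card ↥(L0 ⊓ U) := cT_N.ge.trans (coded.low' (fun L h => cd_ex (cT_c L h)) cT_ok goodU)

theorem sI : LRep 20 cd (el sgM)⁻¹ sgM := sR.inv code1_lt (by decide +kernel)

theorem s_norm (h : g ∈ L0) : el sgM * g * (el sgM)⁻¹ ∈ L0 :=
  L_le (B := L0.comap (MulAut.conj (el sgM)).toMonoidHom) (fun C m =>
    let ⟨g, _, b⟩ := goodG C m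
    let ⟨_, c, d⟩ := gE'.2.2.2.2.2.2.2.2.2 _ ((by decide +kernel : ∀ C ∈ gL, mmul 20 (mmul 20 sgM C) sgM ∈ gS) C m)
    ⟨g, mem_comap.2 ((eq1 d ((sR.mul b).mul sI) (Nat.beq_refl _) ▸ c :)), b⟩) h

/-- The matrix is unitriangular. -/
def UT (C : ℕ) : Prop := ∀ j : Fin 20, app 20 C (2 ^ j.val) ^^^ 2 ^ j.val < 2 ^ j.val

noncomputable instance s3eMod8 : DecidablePred UT := fun _ => Nat.decidableForallFin _

theorem mem_U (a : LRep 20 cd g C) (h : UT C) : g ∈ U :=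
  fun _ _ hv => shift a (fun j k => (h j).trans_le (Nat.pow_le_pow_right two_pos (by omega))) hv

theorem s_not : el sgM ∉ L0 := fun h => by
  have n : zpowers (el sgM) ≤ normalizer ((L0 ⊓ U : Subgroup _) : Set (O q0)) := zpowers_le.2 (mem_norm fun u hu =>
    U_le (B := (L0 ⊓ U).comap (MulAut.conj (el sgM)).toMonoidHom) (fun C m =>
      let ⟨g, a, b⟩ := goodU C m
      ⟨g, mem_comap.2 ⟨s_norm a.1, mem_U ((sR.mul b).mul sI)
        ((by decide +kernel : ∀ C ∈ uL, UT (mmul 20 (mmul 20 sgM C) sgM)) C m)⟩, b⟩) hu)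
  have p : IsPGroup 2 (zpowers (el sgM)) := .of_card (n := 1) (by
    rw [Nat.card_zpowers, orderOf_eq_prime (p := 2) (by rw [pow_two, sq1 sR]) fun e => ne1 sR rp1 (by decide +kernel) e]; rfl)
  have := eq_of_le_of_card_ge (le_sup_left : L0 ⊓ U ≤ L0 ⊓ U ⊔ zpowers (el sgM)) ((p2 _ (sup_le inf_le_left (zpowers_le.2 h))
    (pU.to_inf_right.to_sup_of_normal_left' p n)).trans card_U)
  have := (this.ge (mem_sup_right (mem_zpowers _))).2 2 (e 2) (e_mem (by decide))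
  exact absurd ((cd_sh sR _).symm.trans_lt this) (by decide +kernel)

theorem goodK : ∀ C ∈ pL, Good 20 cd K C := fun C h =>
  let ⟨g, a, b⟩ := gE'.2.1 C (List.mem_append_left _ h)
  let k := (by decide +kernel : ∀ C ∈ pL, app 20 C (cd (e 0)) = cd (e 0) ∧ ∀ j : Fin 20, j.val < 10 →
      app 20 C (2 ^ j.val) ^^^ 2 ^ j.val < 2 ^ 1) C h
  ⟨g, ⟨⟨a, fix b k.1⟩, fun _ hv => shift b k.2 hv⟩, b⟩

theorem hi_iff {v : V0} : v ∈ F 10 ↔ cd v >>> 10 = 0 := by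
  rw [Nat.shiftRight_eq_div_pow, Nat.div_eq_zero_iff_lt (by decide)]; rfl

theorem stageB {v : V0} (h : v ∉ F 19) : ∃ m < 512, ∃ g ∈ K, LRep 20 cd g (wMat 20 pL m) ∧ g.1 v + e 19 ∈ F 10 := by
  have h1 : 512 ≤ cd v >>> 10 ∧ cd v >>> 10 < 512 + 512 := by
    have := cd_lt v
    have : ¬cd v < 2 ^ 19 := h
    rw [Nat.shiftRight_eq_div_pow]; omega
  have k := beq_iff.1 (allFrom_iff.1 ((forceB_eq tB _).symm.trans b_ok :) _ h1.1 h1.2)
  have hm := get_lt 9 tB (cd v >>> 10 - 512)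
  obtain ⟨g, g1, g2⟩ := good_wMat code1_lt goodK (by decide) (hm.trans (by decide +kernel))
  obtain ⟨w, hw⟩ := cd_ex (c := cd v >>> 10 <<< 10) (by rw [Nat.shiftLeft_eq]; omega)
  have a : v + w ∈ F 10 := hi_iff.2 (by rw [cd_add, Nat.shiftRight_xor_distrib, hw, Nat.shiftLeft_shiftRight, Nat.xor_self])
  have b : g.1 w + e 19 ∈ F 10 := hi_iff.2 (by
    rw [cd_add, Nat.shiftRight_xor_distrib, rp g2, ← app_wMat (by decide) (hm.trans (by decide +kernel)) (cd_lt w), ← wA_eq, hw, k,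
      cd_e]; rfl)
  refine ⟨_, hm, g, g1, g2, ?_⟩
  have := add_mem (pres g1.1 a) b
  rwa [map_add, add_assoc, vadd_cancel] at this

theorem K_enum (h : y ∈ K) : ∃ m < 512, LRep 20 cd y (wMat 20 pL m) := by
  have p : ∀ u w, polar q0 (y.1 u) (y.1 w) = polar q0 u w := O.map_polar y
  obtain ⟨m, hm, g, g1, g2, g3⟩ := stageB (v := y⁻¹.1 (e 19)) fun a => absurd (perp_w.2 a) (by
    rw [← p, O.apply_inv_apply, (mem_P.1 h.1).2, polar_e]; decide)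
  have x := mul_mem g1 (inv_mem h)
  refine ⟨m, hm, mul_inv_eq_one.1 (faith _ x.1.1 fun u hu => (sh_iff.1 (x.2 u hu)).resolve_right fun a => ?_) ▸ g2⟩
  have b := O.map_polar (g * y⁻¹) u (e 19)
  rw [← vadd_cancel' ((g * y⁻¹).1 (e 19)) (e 19), polar_add_right, mf.iso _ (pres x.1 hu) ((g * y⁻¹).1 (e 19) + e 19) g3, zero_add, a, polar_add_left,
    add_eq_left, polar_e] at b
  exact absurd b (by decide)

theorem gd_one (v : V0) : Gd 1 v := by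
  have c : ∀ {g}, g ∈ L0 → g ∈ Cn 1 := fun h => mem_Cn.2 ⟨h, by simp⟩
  have k : ∀ v, v ∉ F 19 → Gd 1 v := fun v h => by
    obtain ⟨-, -, g, g1, -, g3⟩ := stageB h
    obtain ⟨f, f1, f2⟩ := exists_wA (fun C m => gE'.2.2.2.2.2.2.2.2.1 C (List.mem_append_left _ m)) (get 10 c0M (cd (g.1 v + e 19)))
    have := mem_of_memN ((forceB_eq _ _).symm.trans (allBig_iff.1 ((forceB_eq _ _).symm.trans c0_ok) _ g3))
    rw [show 524288 = cd (e 19) from (cd_e 19).symm, ← cd_add, vadd_cancel', ← f2] at this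
    obtain ⟨t, a, b⟩ := List.mem_map.1 this
    exact .of_smul (c g1.1.1) _ (.of_smul (c f1) _ (gd_of rp1 (gE'.2.2.2.2.2.2.2.2.1 _ (List.mem_append_right _
      (List.mem_map_of_mem a))) (List.all_eq_true.1 t0_ok t a) b.symm))
  by_cases h : ∀ g ∈ L0, g.1 v ∈ F 19
  · have : ∀ u, polar q0 u v = 0 := fun u => by
      refine (Submodule.span_le.2 ?_ : _ ≤ LinearMap.ker ((polarBilin q0).flip v)) (span_orb.ge (Submodule.mem_top (x := u)))
      rintro _ ⟨g, rfl⟩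
      have := perp_w.2 (h _ (inv_mem g.2))
      rwa [← O.map_polar g.1, O.apply_inv_apply] at this
    obtain ⟨d, a, b, c, -⟩ := k (e 19) (by rw [← perp_w, polar_e]; decide)
    obtain rfl : v = 0 := funext fun i => by simpa [polar_e] using this (e i.rev)
    exact ⟨d, a, b, c, 0, by simp⟩
  · simp only [not_forall] at h
    obtain ⟨g, a, b⟩ := h
    exact .of_smul (c a) _ (k _ b)

theorem gd_z : ∀ w, (el zM).1 w = w → Gd (el zM) w := cover_gd zG.2 (sq1 zG.2) gE'.2.2.1 c1_ok t1_ok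
theorem gd_k3 : ∀ w, (el k3M).1 w = w → Gd (el k3M) w := cover_gd k3G.2 (sq1 k3G.2) gE'.2.2.2.2.1 c3_ok t3_ok
theorem gd_s : ∀ w, (el sgM).1 w = w → Gd (el sgM) w := cover_gd sR (sq1 sR) gE'.2.2.2.2.2.1 c4_ok t4_ok
theorem gd_st : ∀ w, (el sgM * el tauM).1 w = w → Gd (el sgM * el tauM) w := cover_gd stR (sq1 stR) gE'.2.2.2.2.2.2.1 c5_ok t5_ok

/-- A vector in the exceptional class. -/
noncomputable def a0 : V0 := (cd_ex (c := a0c)).choose
/-- Another vector. -/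
noncomputable def b0 : V0 := (cd_ex (c := b0c)).choose

theorem cd_a : cd a0 = a0c := (cd_ex (c := a0c)).choose_spec
theorem cd_b : cd b0 = b0c := (cd_ex (c := b0c)).choose_spec

theorem gd_rt {w : V0} (h : cd w ∈ c2t.map fun t => app 20 c2C t.1) : Gd (el kM) w :=
  let ⟨t, a, b⟩ := List.mem_map.1 h
  gd_of kG.2 (gE'.2.2.2.1 _ (List.mem_append_right _ (List.mem_map_of_mem a))) (List.all_eq_true.1 t2_ok t a) b.symm

theorem gd_k : ∀ w, (el kM).1 w = w → Gd (el kM) w ∨ ∃ g ∈ Cn (el kM), ∃ c, g.1 w = a0 + ((el kM).1 c + c) :=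
  cover kG.2 (sq1 kG.2) (fun g a w b => b.imp (.of_smul a w) fun ⟨f, c, d⟩ => ⟨f * g, mul_mem c a, d⟩)
    (fun w c b => b.imp (.add w c) fun ⟨f, a, x, d⟩ => ⟨f, a, x + f.1 c, by
      rw [map_add, map_add, map_add, d, cm_app (mem_Cn.1 a).2]; abel⟩)
    (fun C m => gE'.2.2.2.1 C (List.mem_append_left _ m)) (fun r m w k =>
      ((by decide +kernel : ∀ r ∈ [0, 1, 2, 3], (app 20 c2C r ∈ c2t.map fun t => app 20 c2C t.1) ∨ app 20 c2C r = a0c) r m).imp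
        (fun a => gd_rt (k ▸ a)) fun a => ⟨1, one_mem _, 0, by simpa using cd_inj (k.trans (a.trans cd_a.symm))⟩) c2_ok

theorem gd_k0 : Gd (el kM) (a0 + a0) := gd_rt (by rw [cd_add, cd_a]; decide +kernel)
theorem gd_k1 : Gd (el kM) (a0 + b0) := gd_rt (by rw [cd_add, cd_a, cd_b]; decide +kernel)
theorem gd_k2 : Gd (el kM) (a0 + (a0 + b0)) := gd_rt (by rw [vadd_cancel, cd_b]; decide +kernel)
theorem k_a : (el kM).1 a0 = a0 := fix kG.2 (by rw [cd_a]; decide +kernel)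
theorem k_b : (el kM).1 b0 = b0 := fix kG.2 (by rw [cd_b]; decide +kernel)
theorem v_a : (el vM).1 a0 = a0 := fix vG.2 (by rw [cd_a]; decide +kernel)

theorem fx_kv : {v | (el kM).1 v = v ∧ (el vM).1 v = v}.ncard = 2 ^ 10 :=
  ncard_fx f6_ok fun v => by simp [← rp kG.2, ← rp vG.2, cd_inj.eq_iff]

/-- The elements with a matrix in a list. -/
def Rp (L : List ℕ) : Set (O q0) := {g | ∃ C ∈ L, LRep 20 cd g C}

/-- The stabilizer of the exceptional class in the Sylow subgroup. -/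
noncomputable def Rb : Subgroup (O q0) := sg ⟨⟨{l | l ∈ Cn (el kM) ⊓ U ∧ ∃ c, l.1 a0 + a0 = (el kM).1 c + c},
  fun {l m} ⟨a, c, hc⟩ ⟨b, d, hd⟩ => ⟨mul_mem a b, l.1 d + c, by
    rw [map_add, ← cm_app (mem_Cn.1 a.1).2, add_add_add_comm, ← hc, ← map_add, ← hd, map_add, O.mul_apply, add_assoc,
      vadd_cancel]⟩⟩, one_mem _, 0, by simp [vadd_self]⟩

theorem goodR : ∀ C ∈ pL ++ rL, Good 20 cd Rb C := fun C h =>
  let ⟨k1, k2, c, _, k3, k4⟩ := (by decide +kernel : ∀ C ∈ pL ++ rL, cmK kM C = true ∧ UT C ∧ ∃ c ∈ cL, c < 2 ^ 20 ∧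
    app 20 C a0c ^^^ a0c = app 20 (kM ^^^ idM 20) c) C h
  let ⟨g, a, b⟩ := good_Cn kG.2 (gE'.2.1 C h) k1
  let ⟨x, hx⟩ := cd_ex k3
  ⟨g, ⟨⟨a, mem_U b k2⟩, x, cd_inj (by rw [cd_sh b, cd_N kG.2, cd_a, hx, k4])⟩, b⟩

theorem card_Rb : 2 ^ 14 ≤ Nat.card Rb := (by decide +kernel : lowN cR = 2 ^ 14).ge.trans
  (coded.low' (fun L h => cd_ex ((by decide +kernel : ∀ L ∈ cR, L.c < 2 ^ 20) L h)) cR_ok goodR)

theorem fix_p {v : V0} (h : ∀ p ∈ K, p ∈ Rp pL → p.1 v = v) : v ∈ F 1 :=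
  (app_idM (cd_lt v)).symm.trans_lt (fx_lt f7_ok fun C m =>
    let ⟨p, a, b⟩ := goodK C m
    (rp b v).symm.trans (congrArg cd (h p a ⟨C, m, b⟩)))

theorem s_inv (h : y ∈ P0) {p : O q0} (hp : p ∈ Rp sL) : y * p * y⁻¹ ∈ Rp sL :=
  P_le (B := sg ⟨⟨{g | ∀ p ∈ Rp sL, g * p * g⁻¹ ∈ Rp sL}, fun {a b} ha hb p h => by
      simpa only [mul_inv_rev, mul_assoc] using ha _ (hb p h)⟩, fun p h => by simpa using h⟩) (fun C m => by
    obtain ⟨g, -, b⟩ := goodXY C m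
    refine ⟨g, fun p ⟨D, c, d⟩ => ?_, b⟩
    have := band_eq_true.1 (allL_iff.1 s_ok D c)
    simp only [List.mem_cons, List.not_mem_nil, or_false] at m
    rw [mul_assoc]
    rcases m with rfl | rfl
    · exact ⟨_, mem_of_memN this.1, b.mul (d.mul (b.inv code1_lt (by decide +kernel)))⟩
    · exact ⟨_, mem_of_memN this.2, b.mul (d.mul (b.inv code1_lt (by decide +kernel)))⟩) h p hp

theorem mem_Z (hy : y ∈ L0) (h : ∀ r ∈ Rb, r * y * r⁻¹ * y⁻¹ ∈ Rp vL) : y ∈ Rp zL := by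
  have m : ∀ {C g}, C ∈ pL ++ rL → LRep 20 cd g C → g ∈ Rb := fun m b =>
    let ⟨_, c, d⟩ := goodR _ m; eq1 d b (Nat.beq_refl _) ▸ c
  have a : ∀ p ∈ Rp pL, ∃ c ∈ Rp vL, y * p * y⁻¹ = p * c := fun p ⟨C, k, b⟩ =>
    ⟨_, h p⁻¹ (inv_mem (m (List.mem_append_left _ k) b)), by group⟩
  have y0 : y.1 (e 0) = e 0 := by
    rcases F_one.1 (fix_p (v := y⁻¹.1 (e 0)) fun p k hp => by
      obtain ⟨c, ⟨V, c1, c2⟩, c3⟩ := a p hp
      rw [← O.inv_apply_apply y (p.1 _), ← O.mul_apply y, ← O.mul_apply (y * p), c3, O.mul_apply,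
        fix c2 ((by decide +kernel : ∀ V ∈ vL, app 20 V (cd (e 0)) = cd (e 0)) V c1), (mem_P.1 k.1).2]) with k | k
    · exact absurd (by simpa using congrArg y.1 k) mf.w_ne
    · simpa using (congrArg y.1 k).symm
  have cm : ∀ p ∈ Rp pL, y * p = p * y := fun p hp => by
    obtain ⟨c, ⟨V, c1, c2⟩, c3⟩ := a p hp
    obtain ⟨C, k, b⟩ := hp
    obtain ⟨k1, k2⟩ := band_eq_true.1 (allL_iff.1 p_ok C k)
    obtain ⟨D, d1, d2⟩ := s_inv ⟨hy, y0⟩ ⟨C, mem_of_memN k1, b⟩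
    rcases List.mem_cons.1 c1 with rfl | c1
    · rw [← mul_inv_eq_iff_eq_mul, c3, eq1 c2 rp1 (Nat.beq_refl _), mul_one]
    · exact absurd c3.symm (ne1 (b.mul c2) d2 (allL_iff.1 ((forceB_eq _ _).symm.trans (allL_iff.1 k2 V c1)) D d1))
  obtain ⟨n, hn, r⟩ := K_enum (y := y) ⟨⟨hy, y0⟩, fun u hu => fix_p fun p k hp => by
    rw [map_add, ← cm_app (cm p hp)]
    rcases sh_iff.1 (k.2 u hu) with b | b <;> rw [b]
    rw [map_add, y0, add_add_add_comm, vadd_self, add_zero]⟩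
  rcases bor_eq_true.1 ((forceB_eq _ _).symm.trans (allBig_iff.1 z_ok n hn)) with k | k
  · exact ⟨_, mem_of_memN k, r⟩
  obtain ⟨R, k1, k2⟩ := anyL_iff.1 k
  obtain ⟨x, x1, x2⟩ := goodR R (List.mem_append_right _ k1)
  obtain ⟨V, c1, c2⟩ := h x x1
  rw [forceB_eq, forceB_eq] at k2
  exact absurd (by group) (ne1 (x2.mul r) (c2.mul (r.mul x2)) (allL_iff.1 k2 V c1))

theorem cen_U (hy : y ∈ L0) (h : ∀ u ∈ L0 ⊓ U, u * y = y * u) : y = 1 ∨ y = el zM := by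
  obtain ⟨Y, a, b⟩ := mem_Z hy fun r hr => ⟨_, List.mem_cons_self, by
    rw [h r ⟨hr.1.1.1, hr.1.2⟩, mul_inv_cancel_right, mul_inv_cancel]; exact rp1⟩
  rcases (by decide +kernel : ∀ Y ∈ zL, Y = idM 20 ∨ Y = zM ∨ ∃ C ∈ uL, mne 20 20 (idM 20) (mmul 20 C Y) (mmul 20 Y C) = true)
    Y a with rfl | rfl | ⟨C, c, d⟩
  exacts [.inl (eq1 b rp1 (Nat.beq_refl _)), .inr (eq1 b zG.2 (Nat.beq_refl _)),
    let ⟨u, u1, u2⟩ := goodU C c; absurd (h u u1) (ne1 (u2.mul b) (b.mul u2) d)]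

theorem mem_V : y ∈ Rp vL ↔ y = 1 ∨ y = el kM ∨ y = el vM ∨ y = el kM * el vM := by
  simp only [Rp, vL, Set.mem_ofPred_eq, List.mem_cons, List.not_mem_nil, or_false, exists_eq_or_imp, exists_eq_left]
  have : ∀ {g C}, LRep 20 cd g C → (LRep 20 cd y C ↔ y = g) := fun a => ⟨fun b => eq1 b a (Nat.beq_refl _), fun b => b ▸ a⟩
  rw [this rp1, this kG.2, this vG.2, this (kG.2.mul vG.2)]

/-- The conjugates of the central involution. -/
def TA (y : O q0) : Prop := ∃ g ∈ L0, y = g * el zM * g⁻¹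

theorem Z_cases (h : y ∈ Rp zL) : y ∈ Rp vL ∨ TA y ∨ TA (y * el kM) := by
  obtain ⟨g, g1, g2⟩ := gE'.2.2.2.2.2.2.2.1
  obtain ⟨Y, a, b⟩ := h
  rcases (by decide +kernel : ∀ Y ∈ zL, Y ∈ vL ∨ (Y = zM ∨ mmul 20 Y gzM = mmul 20 gzM zM) ∨
    mmul 20 Y kM = zM ∨ mmul 20 (mmul 20 Y kM) gzM = mmul 20 gzM zM) Y a with k | k | k
  · exact .inl ⟨Y, k, b⟩
  · exact .inr (.inl (k.elim (fun k => ⟨1, one_mem _, by simpa using eq1 b zG.2 (beq_iff.2 k)⟩)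
      fun k => ⟨g, g1, eq_mul_inv_of_mul_eq (eq1 (b.mul g2) (g2.mul zG.2) (beq_iff.2 k))⟩))
  · exact .inr (.inr (k.elim (fun k => ⟨1, one_mem _, by simpa using eq1 (b.mul kG.2) zG.2 (beq_iff.2 k)⟩)
      fun k => ⟨g, g1, eq_mul_inv_of_mul_eq (eq1 ((b.mul kG.2).mul g2) (g2.mul zG.2) (beq_iff.2 k))⟩))

theorem gd_conj {κ : O q0} (h : ∀ w, κ.1 w = w → Gd κ w) (hg : g ∈ L0) (w : V0) (hw : (g * κ * g⁻¹).1 w = w) :
    Gd (g * κ * g⁻¹) w := by
  simpa using (h (g⁻¹.1 w) (by simpa [O.mul_apply] using congrArg g⁻¹.1 hw)).conj hg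

theorem TA.gd (h : TA y) : ∀ w, y.1 w = w → Gd y w := let ⟨_, a, b⟩ := h; b ▸ gd_conj gd_z a

/-- A map which commutes with the group is the identity. -/
theorem schur {f : V0 →+ V0} (hf : Injective f) (h : ∀ g ∈ L0, ∀ v, f (g.1 v) = g.1 (f v)) (v : V0) : f v = v := by
  have a : f (e 0) = e 0 := (F_one.1 (fix_p fun p k _ => by rw [← h p k.1.1, (mem_P.1 k.1).2])).resolve_left
    fun k => mf.w_ne (hf (k.trans f.map_zero.symm))
  refine (Submodule.span_le.2 ?_ : _ ≤ LinearMap.eqLocus (f.toZModLinearMap 2) .id) (span_orb.ge (Submodule.mem_top (x := v)))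
  rintro _ ⟨g, rfl⟩
  exact (h g g.2 _).trans (congrArg _ a)

theorem ncard_conj {f f' : V0 → V0} (θ : V0 ≃ V0) (h : ∀ v, θ (f v) = f' (θ v)) : {v | f v = v}.ncard = {v | f' v = v}.ncard :=
  Set.ncard_congr (fun v _ => θ v) (fun v a => (h v).symm.trans (congrArg θ a)) (fun _ _ _ _ a => θ.injective a)
    fun v a => ⟨θ.symm v, θ.injective (by rw [h, θ.apply_symm_apply]; exact a), θ.apply_symm_apply v⟩

end Cfsg.Lib.S3E
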